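import Groth.Agent.Depth.SeqDepth
import Mathlib

/-! Cohen–Macaulay modules modulo regular sequences. -/

set_option autoImplicit false

namespace Groth.Agent.CMAux

universe u

open RingTheory.Sequence LocCoh IsLocalRing Pointwise Groth.Agent

variable {R : Type u} [CommRing R] [IsLocalRing R] [IsNoetherianRing R]

/-- The support of a quotient by a prime of the support. -/
theorem supportDim_quotient_prime {M : Type u} [AddCommGroup M] [Module R M] [Module.Finite R M]
    {p : PrimeSpectrum R} (hp : p ∈ Module.support R M) :
    Module.supportDim R (M ⧸ p.asIdeal • (⊤ : Submodule R M)) = ringKrullDim (R ⧸ p.asIdeal) := by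
  rw [← Module.supportDim_quotient_eq_ringKrullDim]
  refine Depth.supportDim_eq_of_support_eq ?_
  rw [Module.support_quotient, Module.support_eq_zeroLocus (M := R ⧸ p.asIdeal), Ideal.annihilator_quotient,
    Set.inter_eq_right]
  exact fun q hq => Module.mem_support_mono (show p ≤ q from hq) hp

/-- Quotients by weakly regular sequences stay Cohen–Macaulay, dropping the dimension by the length. -/
theorem quot_ofList : ∀ (xs : List R) (M : Type u) [AddCommGroup M] [Module R M] [Module.Finite R M],
    IsCohenMacaulayModule R M → (∀ x ∈ xs, x ∈ maximalIdeal R) → IsWeaklyRegular M xs →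
    IsCohenMacaulayModule R (M ⧸ Ideal.ofList xs • (⊤ : Submodule R M)) ∧
      Module.supportDim R (M ⧸ Ideal.ofList xs • (⊤ : Submodule R M)) + xs.length = Module.supportDim R M := by
  intro xs
  induction xs with
  | nil =>
    intro M _ _ _ hM _ _
    let e := Submodule.quotEquivOfEqBot (Ideal.ofList ([] : List R) • (⊤ : Submodule R M))
      (by rw [Ideal.ofList_nil, Submodule.bot_smul])
    refine ⟨?_, ?_⟩
    · rw [IsCohenMacaulayModule] at hM ⊢
      rw [Module.supportDim_eq_of_equiv e, Depth.depth_congr e, hM]
    · rw [Module.supportDim_eq_of_equiv e, List.length_nil, Nat.cast_zero, add_zero]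
  | cons r rs ih =>
    intro M _ _ _ hM hmem h
    rw [isWeaklyRegular_cons_iff] at h
    have hr := hmem r List.mem_cons_self
    obtain ⟨h1, h2⟩ := ih (QuotSMulTop r M) ((Depth.isCohenMacaulayModule_quotSMulTop_iff hr h.1).2 hM)
      (fun x hx => hmem x (List.mem_cons_of_mem _ hx)) h.2
    let e := Submodule.quotOfListConsSMulTopEquivQuotSMulTopInner M r rs
    refine ⟨?_, ?_⟩
    · rw [IsCohenMacaulayModule] at h1 ⊢
      rw [Module.supportDim_eq_of_equiv e, Depth.depth_congr e, h1]
    · rw [Module.supportDim_eq_of_equiv e, List.length_cons, Nat.cast_add, Nat.cast_one, ← add_assoc, h2,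
        Module.supportDim_quotSMulTop_succ_eq_supportDim h.1 hr]

end Groth.Agent.CMAux
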