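import Mathlib

/-! Finitely presented modules over chain rings (adapted from `BezoutFP.Basic`, dropping the domain hypothesis). -/

universe u

namespace Groth.Agent.CMAux.ChainRing

open Submodule

section Valuation

variable {V : Type u} [CommRing V]

lemma exists_dvd_all (hV : ∀ a b : V, a ∣ b ∨ b ∣ a) {ι : Type*} (c : ι → V) :
    ∀ s : Finset ι, s.Nonempty → ∃ i ∈ s, ∀ j ∈ s, c i ∣ c j := by
  classical
  intro s hs
  induction s using Finset.induction_on with
  | empty => exact absurd hs (by simp)
  | insert a s ha ih =>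
    rcases s.eq_empty_or_nonempty with rfl | hs'
    · exact ⟨a, by simp, by simp⟩
    · obtain ⟨i, hi, h⟩ := ih hs'
      rcases hV (c a) (c i) with h1 | h1
      · exact ⟨a, by simp, by
          simp only [Finset.mem_insert, forall_eq_or_imp, dvd_refl, true_and]
          exact fun j hj => h1.trans (h j hj)⟩
      · exact ⟨i, by simp [hi], by
          simp only [Finset.mem_insert, forall_eq_or_imp]
          exact ⟨h1, h⟩⟩

/-- A finitely presented module over a valuation ring is a finite sum of cyclically presented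
modules. -/
theorem exists_equiv_pi_span_singleton (hV : ∀ a b : V, a ∣ b ∨ b ∣ a) :
    ∀ (n : ℕ) (N : Submodule V (Fin n → V)), N.FG →
      ∃ a : Fin n → V, Nonempty (((Fin n → V) ⧸ N) ≃ₗ[V] ((i : Fin n) → V ⧸ Ideal.span {a i})) := by
  intro n
  induction n with
  | zero =>
    intro N _
    haveI : Subsingleton (((Fin 0 → V) ⧸ N)) := Function.Surjective.subsingleton N.mkQ_surjective
    exact ⟨Fin.elim0, ⟨LinearEquiv.ofSubsingleton _ _⟩⟩
  | succ n ih =>
    classical
    rintro N ⟨T, hT⟩
    let T' := insert (0 : Fin (n + 1) → V) T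
    have hT' : span V (T' : Set (Fin (n + 1) → V)) = N := by
      simp [T', hT]
    obtain ⟨⟨x, i0⟩, hx, hdvd⟩ := exists_dvd_all hV
      (fun p : (Fin (n + 1) → V) × Fin (n + 1) => p.1 p.2) (T' ×ˢ Finset.univ) (by simp [T'])
    have hxN : x ∈ N := hT' ▸ subset_span (Finset.mem_product.1 hx).1
    have hall : ∀ y ∈ N, ∀ i, x i0 ∣ y i := by
      intro y hy
      rw [← hT'] at hy
      induction hy using Submodule.span_induction with
      | mem y hy => exact fun i => hdvd (y, i) (Finset.mem_product.2 ⟨hy, Finset.mem_univ _⟩)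
      | zero => simp
      | add a b _ _ ha hb => exact fun i => dvd_add (ha i) (hb i)
      | smul r a _ ha => exact fun i => Dvd.dvd.mul_left (ha i) r
    choose c hc using fun i => hall x hxN i
    let u : Fin (n + 1) → V := Function.update c i0 1
    have hxu : x = x i0 • u := by
      ext i
      rcases eq_or_ne i i0 with rfl | hi
      · simp [u]
      · simp [u, hi, ← hc i]
    have hu0 : u i0 = 1 := by simp [u]
    let ρ : (Fin (n + 1) → V) →ₗ[V] (Fin n → V) :=
      LinearMap.pi fun j => LinearMap.proj (i0.succAbove j) - u (i0.succAbove j) • LinearMap.proj i0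
    obtain ⟨a, ⟨e⟩⟩ := ih (N.map ρ) (Submodule.FG.map ρ ⟨T, hT⟩)
    let g : (Fin (n + 1) → V) →ₗ[V] (V ⧸ Ideal.span {x i0}) × ((Fin n → V) ⧸ N.map ρ) :=
      ((Ideal.span {x i0}).mkQ ∘ₗ LinearMap.proj i0).prod ((N.map ρ).mkQ ∘ₗ ρ)
    have hker : LinearMap.ker g = N := by
      refine le_antisymm (fun y hy => ?_) fun y hy => ?_
      · have h1 : y i0 ∈ Ideal.span {x i0} := (Submodule.Quotient.mk_eq_zero _).1 (congrArg Prod.fst hy)
        have h2 : ρ y ∈ N.map ρ := (Submodule.Quotient.mk_eq_zero _).1 (congrArg Prod.snd hy)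
        obtain ⟨z, hz, hzy⟩ := h2
        obtain ⟨d, hd⟩ := Ideal.mem_span_singleton.1 h1
        obtain ⟨d', hd'⟩ := hall z hz i0
        have : y = z + (d - d') • x := by
          have hkey : y i0 - z i0 = (d - d') * x i0 := by rw [hd, hd']; ring
          ext i
          rw [hxu]
          rcases Fin.eq_self_or_eq_succAbove i0 i with rfl | ⟨j, rfl⟩
          · simp [hu0, ← hkey]
          · have hj := congrFun hzy j
            simp only [ρ, LinearMap.pi_apply, LinearMap.sub_apply, LinearMap.proj_apply,
              LinearMap.smul_apply, smul_eq_mul] at hj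
            simp only [Pi.add_apply, Pi.smul_apply, smul_eq_mul]
            rw [← mul_assoc, ← hkey]
            linear_combination -hj
        rw [this]
        exact add_mem hz (N.smul_mem _ hxN)
      · refine Prod.ext ((Submodule.Quotient.mk_eq_zero _).2 (Ideal.mem_span_singleton.2 (hall y hy i0))) ?_
        exact (Submodule.Quotient.mk_eq_zero _).2 (Submodule.mem_map_of_mem hy)
    have hsurj : Function.Surjective g := by
      rintro ⟨v, w⟩
      obtain ⟨v, rfl⟩ := Submodule.mkQ_surjective _ v
      obtain ⟨w, rfl⟩ := Submodule.mkQ_surjective _ w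
      refine ⟨i0.insertNth (0 : V) w + v • u, ?_⟩
      have hρ : ρ (i0.insertNth (0 : V) w + v • u) = w := by
        ext j
        simp [ρ, hu0, mul_comm]
      simp [g, hρ, hu0]
    let E1 : ((Fin (n + 1) → V) ⧸ N) ≃ₗ[V] (V ⧸ Ideal.span {x i0}) × ((Fin n → V) ⧸ N.map ρ) :=
      (Submodule.quotEquivOfEq N (LinearMap.ker g) hker.symm).trans (g.quotKerEquivOfSurjective hsurj)
    suffices e2 : ((V ⧸ Ideal.span {x i0}) × ((Fin n → V) ⧸ N.map ρ)) ≃ₗ[V]
        ((i : Fin (n + 1)) → V ⧸ Ideal.span {i0.insertNth (α := fun _ => V) (x i0) a i}) from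
      ⟨_, ⟨E1.trans e2⟩⟩
    let G : Fin (n + 1) → Type u := fun i => V ⧸ Ideal.span {i0.insertNth (α := fun _ => V) (x i0) a i}
    let q0 : (V ⧸ Ideal.span {x i0}) ≃ₗ[V] G i0 := Submodule.quotEquivOfEq _ _ (by simp)
    let q1 : (j : Fin n) → ((V ⧸ Ideal.span {a j}) ≃ₗ[V] G (i0.succAbove j)) :=
      fun j => Submodule.quotEquivOfEq _ _ (by simp)
    exact
      { toFun := fun p => i0.insertNth (α := G) (q0 p.1) fun j => q1 j (e p.2 j)
        map_add' := fun p q => by
          apply (Fin.insertNth_eq_iff (α := G)).2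
          constructor
          · simp
          · funext j; simp [Fin.removeNth]
        map_smul' := fun r p => by
          apply (Fin.insertNth_eq_iff (α := G)).2
          constructor
          · simp
          · funext j; simp [Fin.removeNth]
        invFun := fun f => (q0.symm (f i0), e.symm fun j => (q1 j).symm (f (i0.succAbove j)))
        left_inv := fun p => by simp
        right_inv := fun f => by
          apply (Fin.insertNth_eq_iff (α := G)).2
          constructor
          · simp
          · funext j; simp [Fin.removeNth] }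

/-- Every finitely presented module over a chain ring is a finite sum of cyclically presented ones. -/
theorem exists_equiv_of_finitePresentation (hV : ∀ a b : V, a ∣ b ∨ b ∣ a) (M : Type u) [AddCommGroup M] [Module V M]
    [Module.FinitePresentation V M] :
    ∃ (n : ℕ) (f : Fin n → V), Nonempty (M ≃ₗ[V] ((i : Fin n) → V ⧸ Ideal.span {f i})) := by
  obtain ⟨n, N, e, hN⟩ := Module.FinitePresentation.exists_fin V M
  obtain ⟨a, ⟨e'⟩⟩ := exists_equiv_pi_span_singleton hV n N hN
  exact ⟨n, a, ⟨e.trans e'⟩⟩

end Valuation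

end Groth.Agent.CMAux.ChainRing
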