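import Groth.Agent.CMAux.SemiLocalDim
import Groth.Agent.AdicNoeth.Basic
import Mathlib

/-! The dimension of a finite module over a semi-local noetherian ring equals that of its completion. -/

set_option autoImplicit false

namespace Groth.Agent.CMAux.ComplDim

universe u

open Groth.Agent.HilbSam AdicCompletion

variable {A : Type u} [CommRing A] (I : Ideal A) (M : Type u) [AddCommGroup M] [Module A M]

theorem surjective_mk_comp (fg : I.FG) (n : ℕ) :
    Function.Surjective ((Ideal.Quotient.mk ((I.map (algebraMap A (AdicCompletion I A))) ^ n)).comp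
      (algebraMap A (AdicCompletion I A))) := by
  intro q
  obtain ⟨x, rfl⟩ := Ideal.Quotient.mk_surjective q
  obtain ⟨a, ha⟩ := Submodule.mkQ_surjective _ (eval I A n x)
  refine ⟨a, ?_⟩
  rw [RingHom.comp_apply, Ideal.Quotient.mk_eq_mk_iff_sub_mem]
  have h : algebraMap A (AdicCompletion I A) a - x ∈ I ^ n • (⊤ : Submodule A (AdicCompletion I A)) := by
    rw [pow_smul_top_eq_ker_eval fg, LinearMap.mem_ker, map_sub, sub_eq_zero, ← ha,
      AdicCompletion.algebraMap_apply]
    rfl
  rw [Ideal.smul_top_eq_map, Ideal.map_pow] at h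
  exact h

/-- `length (M^/ I'^n M^) = length (M/I^n M)`. -/
theorem length_quotient_completion (fg : I.FG) (n : ℕ) :
    Module.length (AdicCompletion I A) (AdicCompletion I M ⧸
        ((I.map (algebraMap A (AdicCompletion I A))) ^ n • ⊤ :
          Submodule (AdicCompletion I A) (AdicCompletion I M))) =
      Module.length A (M ⧸ (I ^ n • ⊤ : Submodule A M)) := by
  set J := (I.map (algebraMap A (AdicCompletion I A))) ^ n
  have h1 := Module.length_eq_of_surjective (R := AdicCompletion I A ⧸ J) (S := AdicCompletion I A)
    (M := AdicCompletion I M ⧸ (J • ⊤ : Submodule (AdicCompletion I A) (AdicCompletion I M)))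
    Ideal.Quotient.mk_surjective
  have h2 := Module.length_eq_of_surjective (R := AdicCompletion I A ⧸ J) (S := A)
    (M := AdicCompletion I M ⧸ (J • ⊤ : Submodule (AdicCompletion I A) (AdicCompletion I M)))
    (surjective_mk_comp I fg n)
  rw [h1, ← h2]
  have e1 : (J • ⊤ : Submodule (AdicCompletion I A) (AdicCompletion I M)).restrictScalars A =
      LinearMap.ker (eval I M n) := by
    rw [← pow_smul_top_eq_ker_eval fg]
    rw [show J = (I ^ n).map (algebraMap A (AdicCompletion I A)) from (Ideal.map_pow _ _ _).symm,
      Ideal.smul_restrictScalars, Submodule.restrictScalars_top]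
  exact ((Submodule.Quotient.restrictScalarsEquiv A _).symm ≪≫ₗ Submodule.quotEquivOfEq _ _ e1 ≪≫ₗ
    LinearMap.quotKerEquivOfSurjective _ (eval_surjective I M n)).length_eq

variable [IsNoetherianRing A] [Module.Finite A M]

theorem le_jacobson : I.map (algebraMap A (AdicCompletion I A)) ≤ Ideal.jacobson ⊥ := by
  haveI := AdicCompletion.isAdicComplete (M := A) (IsNoetherian.noetherian I : I.FG)
  haveI : IsAdicComplete (I.map (algebraMap A (AdicCompletion I A))) (AdicCompletion I A) :=
    (IsAdicComplete.map_algebraMap_iff _ _).mpr ‹_›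
  exact IsAdicComplete.le_jacobson_bot _

theorem supportDim_completion [Finite (MaximalSpectrum A)] :
    Module.supportDim (AdicCompletion (Ring.jacobson A) A) (AdicCompletion (Ring.jacobson A) M) =
      Module.supportDim A M := by
  set r := Ring.jacobson A with hr
  have hI : r ≤ Ideal.jacobson ⊥ := (Ideal.jacobson_bot (R := A)).ge
  have fg : r.FG := IsNoetherian.noetherian r
  haveI : IsArtinianRing (A ⧸ r) := isArtinianRing_quotient_jacobson
  let B := AdicCompletion r A
  haveI : IsNoetherianRing B := AdicNoeth.isNoetherianRing_adicCompletion _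
  haveI : IsHausdorff r M := IsHausdorff.of_le_jacobson _ _ hI
  rcases subsingleton_or_nontrivial M with hM | hM
  · haveI : Subsingleton (AdicCompletion r M) := by
      refine ⟨fun x y => AdicCompletion.ext fun n => ?_⟩
      exact Subsingleton.elim _ _
    rw [Module.supportDim_eq_bot_of_subsingleton A M, Module.supportDim_eq_bot_of_subsingleton B]
  haveI : Module.Finite B (AdicCompletion r M) :=
    Module.Finite.equiv (ofTensorProductEquivOfFiniteNoetherian r M)
  haveI : Nontrivial (AdicCompletion r M) := (AdicCompletion.of_injective r M).nontrivial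
  haveI : IsArtinianRing (B ⧸ r.map (algebraMap A B)) := by
    have := surjective_mk_comp r fg 1
    rw [pow_one] at this
    let φ : A ⧸ r →+* B ⧸ r.map (algebraMap A B) :=
      Ideal.Quotient.lift r ((Ideal.Quotient.mk _).comp (algebraMap A B)) fun a ha => by
        rw [RingHom.comp_apply, Ideal.Quotient.eq_zero_iff_mem]; exact Ideal.mem_map_of_mem _ ha
    exact Function.Surjective.isArtinianRing (f := φ) fun x => by
      obtain ⟨a, rfl⟩ := this x
      exact ⟨Ideal.Quotient.mk r a, rfl⟩
  obtain ⟨P, ⟨N, hN⟩, hP⟩ := exists_polynomial_natDegree_eq (M := M) r hI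
  obtain ⟨Q, ⟨N', hN'⟩, hQ⟩ := exists_polynomial_natDegree_eq (M := AdicCompletion r M)
    (r.map (algebraMap A B)) (le_jacobson r)
  rw [← hP, ← hQ]
  have : P = Q := by
    refine Polynomial.eq_of_infinite_eval_eq _ _ (Set.Infinite.mono ?_
      ((Set.Ici_infinite (max N N')).image (Nat.cast_injective (R := ℚ)).injOn))
    rintro _ ⟨n, hn, rfl⟩
    simp only [Set.mem_Ici, max_le_iff] at hn
    show P.eval (n : ℚ) = Q.eval (n : ℚ)
    rw [← hN n hn.1, ← hN' n hn.2]
    unfold hs
    rw [length_quotient_completion r M fg]
  rw [this]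

end Groth.Agent.CMAux.ComplDim
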