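import Mathlib

/-!
`M ⊗ k` versus `M / 𝔪M` as modules over an algebra.
-/

set_option autoImplicit false

universe u

open scoped TensorProduct
open IsLocalRing

namespace Groth.Agent.CMAux

variable (A : Type u) [CommRing A] [IsLocalRing A] (B : Type u) [CommRing B] [Algebra A B]
  (M : Type u) [AddCommGroup M] [Module B M] [Module A M] [IsScalarTower A B M]

theorem nonempty_fibreEquiv : Nonempty ((M ⊗[A] ResidueField A) ≃ₗ[B]
    M ⧸ ((maximalIdeal A).map (algebraMap A B) • (⊤ : Submodule B M))) := by
  have hJ : (maximalIdeal A • ⊤ : Submodule A M) =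
      ((maximalIdeal A).map (algebraMap A B) • ⊤ : Submodule B M).restrictScalars A := by
    rw [Ideal.smul_restrictScalars, Submodule.restrictScalars_top]
  let e : M ⊗[A] ResidueField A ≃ₗ[A] M ⧸ ((maximalIdeal A).map (algebraMap A B) • (⊤ : Submodule B M)) :=
    (TensorProduct.tensorQuotEquivQuotSMul M (maximalIdeal A)).trans
      ((Submodule.quotEquivOfEq _ _ hJ).trans (Submodule.Quotient.restrictScalarsEquiv A _))
  have he : ∀ (n : M) (r : A), e (n ⊗ₜ IsLocalRing.residue A r) = Submodule.Quotient.mk (r • n) :=
    fun n r => by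
    have h := TensorProduct.tensorQuotEquivQuotSMul_tmul_mk (maximalIdeal A) n r
    show (Submodule.Quotient.restrictScalarsEquiv A _) ((Submodule.quotEquivOfEq _ _ hJ)
      (TensorProduct.tensorQuotEquivQuotSMul M (maximalIdeal A) (n ⊗ₜ Ideal.Quotient.mk _ r))) = _
    rw [h]
    rfl
  have hs : ∀ (s : B) (z : M ⊗[A] ResidueField A), e (s • z) = s • e z := fun s z => by
    induction z with
    | zero => rw [smul_zero, map_zero, smul_zero]
    | add x y hx hy => rw [smul_add, map_add, map_add, smul_add, hx, hy]
    | tmul n a =>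
      obtain ⟨r, rfl⟩ := IsLocalRing.residue_surjective a
      show e ((s • n) ⊗ₜ IsLocalRing.residue A r) = s • e (n ⊗ₜ IsLocalRing.residue A r)
      rw [he, he, ← Submodule.Quotient.mk_smul, smul_comm]
  exact ⟨{ toFun := e, map_add' := map_add e, map_smul' := hs, invFun := e.symm,
           left_inv := e.left_inv, right_inv := e.right_inv }⟩

end Groth.Agent.CMAux
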