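import Mathlib

/-! A module finite over the base makes the ring modulo its annihilator finite over the base. -/

set_option autoImplicit false

universe u

namespace Groth.Agent.CMAux

variable (A B : Type u) [CommRing A] [CommRing B] [IsNoetherianRing A] [Algebra A B]
  (M : Type u) [AddCommGroup M] [Module B M] [Module A M] [IsScalarTower A B M] [Module.Finite A M]

theorem finite_quotient_annihilator : Module.Finite A (B ⧸ Module.annihilator B M) := by
  obtain ⟨n, s, hs⟩ := Module.Finite.exists_fin (R := A) (M := M)
  let g : B →ₗ[A] (Fin n → M) := LinearMap.pi fun i =>
    ((LinearMap.toSpanSingleton B M (s i)).restrictScalars A)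
  have hker : LinearMap.ker g = (Module.annihilator B M).restrictScalars A := by
    ext b
    rw [LinearMap.mem_ker, Submodule.restrictScalars_mem, Module.mem_annihilator]
    constructor
    · intro hb m
      have hm : m ∈ Submodule.span A (Set.range s) := by rw [hs]; trivial
      induction hm using Submodule.span_induction with
      | mem x hx => obtain ⟨i, rfl⟩ := hx; exact congrFun hb i
      | zero => exact smul_zero b
      | add x y _ _ hx hy => rw [smul_add, hx, hy, add_zero]
      | smul a x _ hx => rw [smul_comm, hx, smul_zero]
    · intro hb
      funext i
      exact hb (s i)
  exact Module.Finite.equiv ((g.quotKerEquivRange.symm).trans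
    ((Submodule.quotEquivOfEq _ _ hker).trans (Submodule.Quotient.restrictScalarsEquiv A _)))

end Groth.Agent.CMAux
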