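import Groth.Agent.Depth.Change
import Groth.Agent.Depth.SeqDepth
import Mathlib

/-! Depth along flat local maps with trivial closed fibre. -/

set_option autoImplicit false

universe u

open IsLocalRing RingTheory.Sequence LocCoh
open scoped TensorProduct

namespace Groth.Agent.CMAux

variable (R S : Type u) [CommRing R] [CommRing S] [IsLocalRing R] [IsLocalRing S] [IsNoetherianRing R]
  [IsNoetherianRing S] [Algebra R S] [Module.FaithfullyFlat R S]

theorem depth_baseChange_eq (h : (maximalIdeal R).map (algebraMap R S) = maximalIdeal S)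
    (M : Type u) [AddCommGroup M] [Module R M] [Module.Finite R M] :
    depth S (S ⊗[R] M) = depth R M := by
  rcases subsingleton_or_nontrivial M with hM | hM
  · rw [depth, depth, Depth.idealDepth_of_subsingleton, Depth.idealDepth_of_subsingleton]
  have hne : maximalIdeal R • (⊤ : Submodule R M) ≠ ⊤ := Depth.maximalIdeal_smul_top_ne_top
  have hnt : ∀ (N : Type u) [AddCommGroup N] [Module R N] (x : N), (1 : S) ⊗ₜ[R] x = 0 → x = 0 := fun N _ _ x hx =>
    Module.FaithfullyFlat.tensorProduct_mk_injective (A := R) (B := S) N (by simpa using hx)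
  obtain ⟨d, hd, hdt⟩ : ∃ d : ℕ, depth R M = d ∧ True := by
    have hle := Depth.depth_le_ringKrullDim (R := R) (M := M)
    cases hk : depth R M using ENat.recTopCoe with
    | top =>
      rw [hk] at hle
      exact absurd (lt_of_le_of_lt hle ringKrullDim_lt_top) (lt_irrefl _)
    | coe d => exact ⟨d, rfl, trivial⟩
  obtain ⟨rs, hl, hm, hreg⟩ := (Depth.le_idealDepth_iff_exists hne (n := d)).mp hd.ge
  have hQ := Depth.idealDepth_quot_ofList_add_length rs M hreg hm
  rw [hl] at hQ
  have hreg' := (IsLocalRing.isRegular_iff_isWeaklyRegular_of_subset_maximalIdeal hm).2 hreg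
  haveI := hreg'.quot_ofList_smul_nontrivial ⊤
  have hQ0 : depth R (M ⧸ (Ideal.ofList rs • ⊤ : Submodule R M)) = 0 :=
    ENat.add_left_injective_of_ne_top (ENat.natCast_ne_top d)
      (show depth R _ + d = 0 + (d : ℕ∞) by rw [zero_add]; exact hQ.trans hd)
  rw [Depth.depth_eq_zero_iff] at hQ0
  obtain ⟨-, q, hq⟩ := isAssociatedPrime_iff.mp (AssociatedPrimes.mem_iff.mp hQ0)
  obtain ⟨x, rfl⟩ := Submodule.Quotient.mk_surjective _ q
  let rs' := rs.map (algebraMap R S)
  have hregS : IsWeaklyRegular (S ⊗[R] M) rs' :=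
    (isWeaklyRegular_map_algebraMap_iff S (S ⊗[R] M) rs).mpr (hreg.isWeaklyRegular_lTensor (M₂ := S))
  have hmS : ∀ r ∈ rs', r ∈ maximalIdeal S := by
    intro r hr
    obtain ⟨a, ha, rfl⟩ := List.mem_map.mp hr
    exact h ▸ Ideal.mem_map_of_mem _ (hm a ha)
  have hS := Depth.idealDepth_quot_ofList_add_length rs' (S ⊗[R] M) hregS hmS
  have hJ : (Ideal.ofList rs • ⊤ : Submodule R (S ⊗[R] M)) =
      (Ideal.ofList rs' • ⊤ : Submodule S (S ⊗[R] M)).restrictScalars R := by
    rw [show rs' = rs.map (algebraMap R S) from rfl, ← Ideal.map_ofList, Ideal.smul_restrictScalars,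
      Submodule.restrictScalars_top]
  let q' : (S ⊗[R] M) ⧸ (Ideal.ofList rs' • ⊤ : Submodule S (S ⊗[R] M)) := Submodule.Quotient.mk ((1 : S) ⊗ₜ x)
  have hq' : q' ≠ 0 := by
    intro h0
    have hmem : (1 : S) ⊗ₜ[R] x ∈ (Ideal.ofList rs • ⊤ : Submodule R (S ⊗[R] M)) := by
      rw [hJ]; exact (Submodule.Quotient.mk_eq_zero _).1 h0
    let π : M →ₗ[R] M ⧸ (Ideal.ofList rs • ⊤ : Submodule R M) := Submodule.mkQ _
    have h1 : π.lTensor S ((1 : S) ⊗ₜ[R] x) ∈ (Ideal.ofList rs • ⊤ : Submodule R (S ⊗[R] M)).map (π.lTensor S) :=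
      ⟨_, hmem, rfl⟩
    rw [Submodule.map_smul''] at h1
    have h2 : ∀ z ∈ Ideal.ofList rs • ((⊤ : Submodule R (S ⊗[R] M)).map (π.lTensor S)), z = 0 := fun z hz => by
      refine Submodule.smul_induction_on hz (fun r hr y hy => ?_) (fun a b ha hb => by rw [ha, hb, add_zero])
      clear hy
      induction y with
      | zero => rw [smul_zero]
      | add a b ha hb => rw [smul_add, ha, hb, add_zero]
      | tmul s n =>
        obtain ⟨n, rfl⟩ := Submodule.Quotient.mk_surjective _ n
        rw [← TensorProduct.tmul_smul, ← Submodule.Quotient.mk_smul,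
          (Submodule.Quotient.mk_eq_zero (Ideal.ofList rs • ⊤ : Submodule R M)).2
            (Submodule.smul_mem_smul hr (Submodule.mem_top (x := n))), TensorProduct.tmul_zero]
    have h3 := hnt _ _ ((LinearMap.lTensor_tmul S π 1 x).symm.trans (h2 _ h1))
    have h4 : (1 : R) ∈ maximalIdeal R := by
      rw [hq, Submodule.mem_colon_singleton, one_smul]
      exact (Submodule.mem_bot R).2 h3
    exact (maximalIdeal.isMaximal R).ne_top ((Ideal.eq_top_iff_one _).2 h4)
  haveI : Nontrivial ((S ⊗[R] M) ⧸ (Ideal.ofList rs' • ⊤ : Submodule S (S ⊗[R] M))) := ⟨⟨q', 0, hq'⟩⟩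
  have hS0 : depth S ((S ⊗[R] M) ⧸ (Ideal.ofList rs' • ⊤ : Submodule S (S ⊗[R] M))) = 0 := by
    rw [Depth.depth_eq_zero_iff, AssociatedPrimes.mem_iff, isAssociatedPrime_iff]
    refine ⟨(maximalIdeal.isMaximal S).isPrime, q', ((maximalIdeal.isMaximal S).eq_of_le ?_ ?_)⟩
    · intro htop
      have h1 : (1 : S) ∈ (⊥ : Submodule S _).colon ({q'} : Set _) := by rw [htop]; trivial
      rw [Submodule.mem_colon_singleton, one_smul] at h1
      exact hq' ((Submodule.mem_bot S).1 h1)
    · rw [← h, Ideal.map_le_iff_le_comap]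
      intro r hr
      rw [Ideal.mem_comap, Submodule.mem_colon_singleton, Submodule.mem_bot]
      rw [hq, Submodule.mem_colon_singleton, Submodule.mem_bot, ← Submodule.Quotient.mk_smul,
        Submodule.Quotient.mk_eq_zero] at hr
      rw [algebraMap_smul]
      refine (Submodule.Quotient.mk_eq_zero (Ideal.ofList rs' • ⊤ : Submodule S (S ⊗[R] M))).2 ?_
      show r • ((1 : S) ⊗ₜ[R] x) ∈ _
      rw [← TensorProduct.tmul_smul, ← Submodule.restrictScalars_mem R, ← hJ]
      have h1 : (TensorProduct.mk R S M 1) (r • x) ∈ (Ideal.ofList rs • ⊤ : Submodule R M).map (TensorProduct.mk R S M 1) :=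
        ⟨_, hr, rfl⟩
      rw [Submodule.map_smul''] at h1
      exact Submodule.smul_mono le_rfl le_top h1
  rw [depth] at hS0
  rw [hS0, zero_add, List.length_map, hl] at hS
  rw [hd]
  exact hS.symm

end Groth.Agent.CMAux
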