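import Groth.Agent.FlatCrit.Basic
import Mathlib

/-!
Flatness ascends from the quotient by a regular element in the Jacobson radical.
-/

set_option autoImplicit false

universe u

open RingTheory.Sequence Function
open scoped TensorProduct Pointwise

namespace Groth.Agent.CMAux

variable (A B : Type u) [CommRing A] [CommRing B] [IsLocalRing A] [IsNoetherianRing A]
  [IsNoetherianRing B] [Algebra A B]

theorem flat_of_flat_quotSMulTop (hB : (IsLocalRing.maximalIdeal A).map (algebraMap A B) ≤ Ideal.jacobson ⊥)
    (M : Type u) [AddCommGroup M] [Module B M] [Module A M] [IsScalarTower A B M] [Module.Finite B M]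
    {f : B} (hf : f ∈ Ideal.jacobson (⊥ : Ideal B)) (hreg : IsSMulRegular M f)
    [Module.Flat A (QuotSMulTop f M)] : Module.Flat A M := by
  set m := IsLocalRing.maximalIdeal A with hm
  let μ : M ⊗[A] m →ₗ[B] M := (TensorProduct.AlgebraTensorModule.rid A B M).toLinearMap ∘ₗ
    TensorProduct.AlgebraTensorModule.lTensor B M (Submodule.subtype m)
  have hμ : ∀ z, μ z = TensorProduct.rid A M ((Submodule.subtype m).lTensor M z) := fun z => by
    induction z with
    | zero => simp
    | add x y hx hy => simp [hx, hy]
    | tmul n a => rfl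
  let q : M →ₗ[A] QuotSMulTop f M := (Submodule.mkQ (f • ⊤ : Submodule B M)).restrictScalars A
  let u : M →ₗ[A] M := (LinearMap.lsmul B M f).restrictScalars A
  have hex : Exact u q := fun x => by
    rw [show q x = (Submodule.mkQ (f • ⊤ : Submodule B M)) x from rfl, Submodule.mkQ_apply,
      Submodule.Quotient.mk_eq_zero, Submodule.mem_smul_pointwise_iff_exists]
    simp [u]
  have hu : ∀ z, u.rTensor m z = f • z := fun z => by
    induction z with
    | zero => simp
    | add x y hx hy => simp [hx, hy]
    | tmul n a => simp [u, TensorProduct.smul_tmul']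
  let μ' : QuotSMulTop f M ⊗[A] m → QuotSMulTop f M :=
    fun z => TensorProduct.rid A _ ((Submodule.subtype m).lTensor (QuotSMulTop f M) z)
  have hμ' : Injective μ' := (TensorProduct.rid A _).injective.comp
    (Module.Flat.lTensor_preserves_injective_linearMap _ Subtype.val_injective)
  have hnat : ∀ z, μ' (q.rTensor m z) = q (μ z) := fun z => by
    induction z with
    | zero => simp [μ']
    | add x y hx hy => simp only [μ', map_add] at hx hy ⊢; rw [hx, hy]
    | tmul n a => simp [μ', hμ, q]
  haveI : Module.Finite A m := Module.Finite.of_fg (Ideal.fg_of_isNoetherianRing m)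
  haveI := FlatCrit.finite_tensor (R := A) (S := B) (M := M) m
  have hK : LinearMap.ker μ = ⊥ := by
    refine Submodule.eq_bot_of_le_smul_of_le_jacobson_bot (Ideal.span {f}) _ (IsNoetherian.noetherian _) ?_
      ((Ideal.span_singleton_le_iff_mem _).mpr hf)
    intro z hz
    rw [LinearMap.mem_ker] at hz
    have h0 : q.rTensor m z = 0 := hμ' (by
      rw [hnat, hz, map_zero]
      simp [μ'])
    obtain ⟨w, rfl⟩ := (rTensor_exact m hex
      (fun y => Submodule.mkQ_surjective (f • ⊤ : Submodule B M) y) z).mp h0
    rw [hu] at hz ⊢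
    refine Submodule.smul_mem_smul (Ideal.mem_span_singleton_self f) ?_
    rw [LinearMap.mem_ker]
    rw [map_smul] at hz
    exact hreg (by simpa using hz)
  letI := Ideal.Quotient.field m
  have h1 : Injective ((Submodule.subtype m).lTensor M) := fun x y hxy => by
    apply LinearMap.ker_eq_bot.mp hK
    rw [hμ, hμ, hxy]
  exact FlatCrit.flat_of_le_jacobson (S := B) hB h1

theorem flat_take (hB : (IsLocalRing.maximalIdeal A).map (algebraMap A B) ≤ Ideal.jacobson ⊥) :
    ∀ (fs : List B) (M : Type u) [AddCommGroup M] [Module B M] [Module A M] [IsScalarTower A B M]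
      [Module.Finite B M], (∀ f ∈ fs, f ∈ Ideal.jacobson (⊥ : Ideal B)) → IsWeaklyRegular M fs →
      Module.Flat A (M ⧸ (Ideal.ofList fs • (⊤ : Submodule B M))) →
      ∀ i, Module.Flat A (M ⧸ (Ideal.ofList (fs.take i) • (⊤ : Submodule B M))) := by
  intro fs
  induction fs with
  | nil =>
    intro M _ _ _ _ _ _ _ h i
    rw [List.take_nil]
    exact h
  | cons r rs ih =>
    intro M _ _ _ _ _ hmem hreg h i
    rw [isWeaklyRegular_cons_iff] at hreg
    have h' : Module.Flat A (QuotSMulTop r M ⧸ (Ideal.ofList rs • (⊤ : Submodule B (QuotSMulTop r M)))) :=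
      Module.Flat.of_linearEquiv
        ((Submodule.quotOfListConsSMulTopEquivQuotSMulTopInner M r rs).restrictScalars A).symm
    have hq := ih (QuotSMulTop r M) (fun x hx => hmem x (List.mem_cons_of_mem _ hx)) hreg.2 h'
    cases i with
    | zero =>
      haveI : Module.Flat A (QuotSMulTop r M) := by
        haveI := hq 0
        exact Module.Flat.of_linearEquiv ((Submodule.quotEquivOfEqBot
          (Ideal.ofList (rs.take 0) • (⊤ : Submodule B (QuotSMulTop r M)))
          (by rw [List.take_zero, Ideal.ofList_nil, Submodule.bot_smul])).restrictScalars A).symm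
      haveI := flat_of_flat_quotSMulTop A B hB M (hmem r List.mem_cons_self) hreg.1
      exact Module.Flat.of_linearEquiv ((Submodule.quotEquivOfEqBot
        (Ideal.ofList ((r :: rs).take 0) • (⊤ : Submodule B M))
        (by rw [List.take_zero, Ideal.ofList_nil, Submodule.bot_smul])).restrictScalars A)
    | succ j =>
      haveI := hq j
      exact Module.Flat.of_linearEquiv
        ((Submodule.quotOfListConsSMulTopEquivQuotSMulTopInner M r (rs.take j)).restrictScalars A)

end Groth.Agent.CMAux
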