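import Groth.Agent.CAlgReg.Serre

/-! Projective dimension of finite modules over Noetherian rings. -/

set_option autoImplicit false

universe u

open CategoryTheory Abelian

namespace Groth.Agent.CMAux

open CAlgReg

variable {R : Type u} [CommRing R]

theorem subsingleton_ext_finite [IsNoetherianRing R] (M : ModuleCat.{u} R) (i : ℕ)
    (h : ∀ I : Ideal R, Subsingleton (Ext M (ModuleCat.of R (R ⧸ I)) i))
    (N : Type u) [AddCommGroup N] [Module R N] [hN : Module.Finite R N] :
    Subsingleton (Ext M (ModuleCat.of R N) i) := by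
  induction hN using IsNoetherianRing.induction_on_isQuotientEquivQuotientPrime R with
  | subsingleton N =>
    refine subsingleton_of_forall_eq 0 fun e => ?_
    rw [← Ext.comp_mk₀_id e, show 𝟙 (ModuleCat.of R N) = 0 from
      (ModuleCat.isZero_of_subsingleton _).eq_zero_of_src _, Ext.mk₀_zero, Ext.comp_zero]
  | quotient N q f =>
    refine subsingleton_of_forall_eq 0 fun e => ?_
    let φ : ModuleCat.of R (R ⧸ q.asIdeal) ≅ ModuleCat.of R N := f.symm.toModuleIso
    have h1 := @Subsingleton.elim _ (h q.asIdeal) (e.comp (Ext.mk₀ φ.inv) (add_zero i)) 0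
    have h2 := congrArg (fun t => t.comp (Ext.mk₀ φ.hom) (add_zero i)) h1
    simpa using h2
  | exact N₁ N₂ N₃ f g hf hg hfg h₁ h₃ =>
    let C : ShortComplex (ModuleCat.{u} R) :=
      ModuleCat.shortComplexOfCompEqZero f g hfg.linearMap_comp_eq_zero
    have hC : C.ShortExact := ModuleCat.shortComplex_shortExact C hfg hf hg
    refine subsingleton_of_forall_eq 0 fun e => ?_
    obtain ⟨e₁, he₁⟩ := Ext.covariant_sequence_exact₂ M hC e (@Subsingleton.elim _ h₃ _ _)
    rw [← he₁, @Subsingleton.elim _ h₁ e₁ 0, Ext.zero_comp]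

theorem pdLT_of_ext_quotient [IsNoetherianRing R] : ∀ (n : ℕ) (M : Type u) [AddCommGroup M] [Module R M]
    [Module.Finite R M], (∀ I : Ideal R, Subsingleton (Ext (ModuleCat.of R M) (ModuleCat.of R (R ⧸ I)) (n + 1))) →
      PdLT R M (n + 1) := by
  intro n
  induction n with
  | zero =>
    intro M _ _ _ h
    obtain ⟨m, g, hg⟩ := Module.Finite.exists_fin' R M
    have hex : Function.Exact (LinearMap.ker g).subtype g := LinearMap.exact_subtype_ker_map g
    let S : ShortComplex (ModuleCat.{u} R) :=
      ModuleCat.shortComplexOfCompEqZero (LinearMap.ker g).subtype g hex.linearMap_comp_eq_zero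
    have hS : S.ShortExact := ModuleCat.shortComplex_shortExact S hex Subtype.val_injective hg
    obtain ⟨x₂, hx₂⟩ := Ext.contravariant_sequence_exact₁ hS S.X₁ (Ext.mk₀ (𝟙 S.X₁))
      (add_zero 1) (@Subsingleton.elim _ (subsingleton_ext_finite (ModuleCat.of R M) 1 h (LinearMap.ker g)) _ _)
    obtain ⟨φ, rfl⟩ := Ext.homEquiv₀.symm.surjective x₂
    rw [Ext.homEquiv₀_symm_apply, Ext.mk₀_comp_mk₀] at hx₂
    have hr := congrArg ModuleCat.Hom.hom ((Ext.mk₀_bijective _ _).1 hx₂)
    obtain ⟨-, s, hs⟩ := (hex.split_tfae'.out 1 0 rfl rfl).mp ⟨hg, φ.hom, hr⟩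
    haveI : Module.Projective R M := Module.Projective.of_split s g hs
    exact pdLT_one
  | succ n ih =>
    intro M _ _ _ h
    obtain ⟨m, g, hg⟩ := Module.Finite.exists_fin' R M
    have hex : Function.Exact (LinearMap.ker g).subtype g := LinearMap.exact_subtype_ker_map g
    let S : ShortComplex (ModuleCat.{u} R) :=
      ModuleCat.shortComplexOfCompEqZero (LinearMap.ker g).subtype g hex.linearMap_comp_eq_zero
    have hS : S.ShortExact := ModuleCat.shortComplex_shortExact S hex Subtype.val_injective hg
    haveI : Projective S.X₂ := (IsProjective.iff_projective (R := R) (Fin m → R)).1 inferInstance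
    refine pdLT_right (LinearMap.ker g).subtype g Subtype.val_injective hex hg (ih (LinearMap.ker g) fun I => ?_)
    refine subsingleton_of_forall_eq 0 fun e => ?_
    obtain ⟨x₂, hx₂⟩ := Ext.contravariant_sequence_exact₁ hS (ModuleCat.of R (R ⧸ I)) e
      (n₁ := n + 2) (by omega) (@Subsingleton.elim _ (h I) _ _)
    rw [← hx₂, Ext.eq_zero_of_projective x₂]
    exact Ext.comp_zero ..

theorem pdLT_localizedModule (S : Submonoid R) (n : ℕ) (M : Type u) [AddCommGroup M] [Module R M]
    (h : PdLT R M (n + 1)) : PdLT (Localization S) (LocalizedModule S M) (n + 1) :=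
  pdLT_congr (LocalizedModule.equivTensorProduct S M).symm (pdLT_localization S n M h)

theorem pdLT_of_localized [IsNoetherianRing R] : ∀ (n : ℕ) (M : Type u) [AddCommGroup M] [Module R M]
    [Module.Finite R M],
    (∀ p : PrimeSpectrum R, PdLT (Localization.AtPrime p.asIdeal) (LocalizedModule p.asIdeal.primeCompl M) (n + 1)) →
      PdLT R M (n + 1) := by
  intro n
  induction n with
  | zero =>
    intro M _ _ _ h
    haveI := Module.finitePresentation_of_finite R M
    haveI : Module.Projective R M := Module.projective_of_localization_maximal fun I hI =>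
      projective_of_pdLT_one (h ⟨I, hI.isPrime⟩)
    exact pdLT_one
  | succ n ih =>
    intro M _ _ _ h
    obtain ⟨m, g, hg⟩ := Module.Finite.exists_fin' R M
    have hex : Function.Exact (LinearMap.ker g).subtype g := LinearMap.exact_subtype_ker_map g
    refine pdLT_right (LinearMap.ker g).subtype g Subtype.val_injective hex hg (ih (LinearMap.ker g) fun p => ?_)
    haveI : Module.Projective (Localization.AtPrime p.asIdeal) (LocalizedModule p.asIdeal.primeCompl (Fin m → R)) :=
      Module.Projective.of_equiv (LocalizedModule.equivTensorProduct p.asIdeal.primeCompl (Fin m → R)).symm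
    exact pdLT_left (LocalizedModule.map p.asIdeal.primeCompl (LinearMap.ker g).subtype)
      (LocalizedModule.map p.asIdeal.primeCompl g)
      (LocalizedModule.map_injective _ _ Subtype.val_injective)
      (LocalizedModule.map_exact _ _ _ hex) (LocalizedModule.map_surjective _ _ hg) (h p)

end Groth.Agent.CMAux
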