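import Groth.Agent.FlatCrit.Basic
import Mathlib

/-! A submodule with flat quotient is pure. -/

set_option autoImplicit false

universe u

open scoped TensorProduct

namespace Groth.Agent.CMAux

variable (A : Type u) [CommRing A] {B : Type u} [CommRing B] [Algebra A B]
  (M : Type u) [AddCommGroup M] [Module B M] [Module A M] [IsScalarTower A B M]
  (R : Submodule B M) [Module.Flat A (M ⧸ R)]

theorem lTensor_subtype_injective (Q : Type u) [AddCommGroup Q] [Module A Q] :
    Function.Injective ((R.restrictScalars A).subtype.lTensor Q) := by
  haveI : Module.Flat A (M ⧸ R.restrictScalars A) :=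
    Module.Flat.of_linearEquiv (Submodule.Quotient.restrictScalarsEquiv A R)
  exact (FlatCrit.TorZero.of_flat (M := Q) (Q := M ⧸ R.restrictScalars A)).lTensor_injective
    Subtype.val_injective (LinearMap.exact_subtype_mkQ _) (Submodule.mkQ_surjective _)

end Groth.Agent.CMAux
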