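import Mathlib

/-! Powers of a regular sequence form a regular sequence. -/

set_option autoImplicit false

universe u v

open RingTheory.Sequence Function
open scoped Pointwise

namespace Groth.Agent.CMAux

variable {R : Type u} [CommRing R]

theorem isWeaklyRegular_of_shortExact : ∀ (rs : List R) {M M' M'' : Type v}
    [AddCommGroup M] [Module R M] [AddCommGroup M'] [Module R M'] [AddCommGroup M''] [Module R M'']
    {f : M →ₗ[R] M'} {g : M' →ₗ[R] M''}, Injective f → Exact f g → Surjective g →
      IsWeaklyRegular M rs → IsWeaklyRegular M'' rs → IsWeaklyRegular M' rs := by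
  intro rs
  induction rs with
  | nil => intros; exact IsWeaklyRegular.nil _ _
  | cons s rs ih =>
    intro M M' M'' _ _ _ _ _ _ f g hf he hg h1 h2
    rw [isWeaklyRegular_cons_iff] at h1 h2 ⊢
    refine ⟨isSMulRegular_of_range_eq_ker hf he.linearMap_ker_eq.symm h1.1 h2.1,
      ih (f := QuotSMulTop.map s f) (g := QuotSMulTop.map s g) ?_ (QuotSMulTop.map_exact s he hg)
        (QuotSMulTop.map_surjective s hg) h1.2 h2.2⟩
    have h0 : Exact (0 : M →ₗ[R] M) f := by
      intro y
      refine ⟨fun hy => ⟨0, ?_⟩, ?_⟩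
      · rw [LinearMap.zero_apply]; exact (hf (hy.trans f.map_zero.symm)).symm
      · rintro ⟨z, rfl⟩; rw [LinearMap.zero_apply, map_zero]
    have h := QuotSMulTop.map_first_exact_on_four_term_exact_of_isSMulRegular_last h0 he h2.1
    rw [injective_iff_map_eq_zero]
    intro y hy
    obtain ⟨z, rfl⟩ := (h y).1 hy
    simp

theorem isWeaklyRegular_pow_cons {M : Type v} [AddCommGroup M] [Module R M] (r : R) (rs : List R)
    (h : IsWeaklyRegular M (r :: rs)) : ∀ k, IsWeaklyRegular M (r ^ (k + 1) :: rs) := by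
  rw [isWeaklyRegular_cons_iff] at h
  intro k
  rw [isWeaklyRegular_cons_iff]
  refine ⟨h.1.pow _, ?_⟩
  induction k with
  | zero => rw [zero_add, pow_one]; exact h.2
  | succ k ih =>
    let f : QuotSMulTop (r ^ (k + 1)) M →ₗ[R] QuotSMulTop (r ^ (k + 1 + 1)) M :=
      Submodule.mapQ _ _ (LinearMap.lsmul R M r) (fun x hx => by
        obtain ⟨y, -, rfl⟩ := (Submodule.mem_smul_pointwise_iff_exists _ _ _).1 hx
        refine (Submodule.mem_smul_pointwise_iff_exists _ _ _).2 ⟨y, trivial, ?_⟩
        simp [pow_succ' r (k + 1), mul_smul, smul_comm r (r ^ (k + 1))])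
    let g : QuotSMulTop (r ^ (k + 1 + 1)) M →ₗ[R] QuotSMulTop r M :=
      Submodule.mapQ _ _ LinearMap.id (fun x hx => by
        obtain ⟨y, -, rfl⟩ := (Submodule.mem_smul_pointwise_iff_exists _ _ _).1 hx
        refine (Submodule.mem_smul_pointwise_iff_exists _ _ _).2 ⟨r ^ (k + 1) • y, trivial, ?_⟩
        simp [pow_succ' r (k + 1), mul_smul])
    refine isWeaklyRegular_of_shortExact rs (f := f) (g := g) ?_ ?_ ?_ ih h.2
    · rw [injective_iff_map_eq_zero]
      intro x hx
      obtain ⟨x, rfl⟩ := Submodule.Quotient.mk_surjective _ x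
      change Submodule.Quotient.mk (r • x) = 0 at hx
      rw [Submodule.Quotient.mk_eq_zero, Submodule.mem_smul_pointwise_iff_exists] at hx
      obtain ⟨y, -, hy⟩ := hx
      rw [pow_succ' r (k + 1), mul_smul] at hy
      rw [Submodule.Quotient.mk_eq_zero, Submodule.mem_smul_pointwise_iff_exists]
      exact ⟨y, trivial, h.1 hy⟩
    · intro x
      obtain ⟨x, rfl⟩ := Submodule.Quotient.mk_surjective _ x
      change Submodule.Quotient.mk x = 0 ↔ _
      rw [Submodule.Quotient.mk_eq_zero, Submodule.mem_smul_pointwise_iff_exists]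
      constructor
      · rintro ⟨y, -, rfl⟩
        exact ⟨Submodule.Quotient.mk y, rfl⟩
      · rintro ⟨z, hz⟩
        obtain ⟨z, rfl⟩ := Submodule.Quotient.mk_surjective _ z
        change Submodule.Quotient.mk (r • z) = Submodule.Quotient.mk x at hz
        obtain ⟨y, -, hy⟩ := (Submodule.mem_smul_pointwise_iff_exists _ _ _).1 ((Submodule.Quotient.eq _).1 hz)
        refine ⟨z - r ^ (k + 1) • y, trivial, ?_⟩
        rw [smul_sub, smul_smul, ← pow_succ' r (k + 1), hy, sub_sub_cancel]
    · intro x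
      obtain ⟨x, rfl⟩ := Submodule.Quotient.mk_surjective _ x
      exact ⟨Submodule.Quotient.mk x, rfl⟩

theorem isWeaklyRegular_pow : ∀ (n : ℕ) (M : Type v) [AddCommGroup M] [Module R M] (f : Fin n → R) (v : Fin n → ℕ),
    (∀ i, 1 ≤ v i) → IsWeaklyRegular M (List.ofFn f) → IsWeaklyRegular M (List.ofFn fun i => f i ^ v i) := by
  intro n
  induction n with
  | zero => intro M _ _ f v _ h; simpa using h
  | succ n ih =>
    intro M _ _ f v hv h
    rw [List.ofFn_succ] at h ⊢
    have h' := isWeaklyRegular_pow_cons _ _ h (v 0 - 1)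
    rw [Nat.sub_add_cancel (hv 0)] at h'
    rw [isWeaklyRegular_cons_iff] at h' ⊢
    exact ⟨h'.1, ih _ _ _ (fun i => hv i.succ) h'.2⟩

end Groth.Agent.CMAux
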