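import Groth.Agent.CAlgReg.Basic
import Mathlib

/-! Parts of regular systems of parameters. -/

set_option autoImplicit false

universe u

open IsLocalRing

namespace Groth.Agent.CMAux

variable {A : Type u} [CommRing A] [IsLocalRing A] [IsNoetherianRing A] {r : ℕ} (x : Fin r → maximalIdeal A)

theorem regularParams_of_regular (hA : IsRegularLocalRing A)
    (hli : LinearIndependent (ResidueField A) fun i => (maximalIdeal A).toCotangent (x i)) :
    (ringKrullDim (A ⧸ Ideal.span (Set.range fun i => (x i : A))) + r = ringKrullDim A ∧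
      IsRegularLocalRing (A ⧸ Ideal.span (Set.range fun i => (x i : A)))) := by
  classical
  have hinj : Function.Injective x := fun i j h => hli.injective (congrArg (maximalIdeal A).toCotangent h)
  let s : Finset (maximalIdeal A) := Finset.univ.image x
  have hs : LinearIndepOn (ResidueField A) (maximalIdeal A).toCotangent (s : Set (maximalIdeal A)) := by
    rw [Finset.coe_image, Finset.coe_univ, Set.image_univ]
    exact linearIndepOn_range_iff hinj _ |>.2 hli
  obtain ⟨t, ht, hc⟩ := CAlgReg.exists_extend s hs
  obtain ⟨d, hd⟩ := CAlgReg.exists_dim (R := A)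
  rw [CAlgReg.spanFinrank_eq_of_dim hd] at hc
  have hsc : (s.image ((↑) : maximalIdeal A → A)).card = r := by
    rw [Finset.card_image_of_injective _ Subtype.val_injective, Finset.card_image_of_injective _ hinj, Finset.card_univ,
      Fintype.card_fin]
  have hsc' : s.card = r := by rw [Finset.card_image_of_injective _ hinj, Finset.card_univ, Fintype.card_fin]
  have hset : ((s.image ((↑) : maximalIdeal A → A) : Finset A) : Set A) = Set.range fun i => (x i : A) := by
    rw [Finset.coe_image, Finset.coe_image, Finset.coe_univ, Set.image_univ, ← Set.range_comp]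
    rfl
  obtain ⟨h1, h2, h3⟩ := CAlgReg.quotient_span hd (s.image ((↑) : maximalIdeal A → A)) t
    (by rw [Finset.coe_image]; exact ht) (by omega)
  rw [hset] at h1 h2
  refine ⟨?_, h1⟩
  rw [h2, hd]
  norm_cast
  omega

theorem regular_of_regularParams (hdim : ringKrullDim (A ⧸ Ideal.span (Set.range fun i => (x i : A))) + r = ringKrullDim A)
    (hreg : IsRegularLocalRing (A ⧸ Ideal.span (Set.range fun i => (x i : A)))) :
    IsRegularLocalRing A ∧ LinearIndependent (ResidueField A) (fun i => (maximalIdeal A).toCotangent (x i)) := by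
  classical
  set J := Ideal.span (Set.range fun i => (x i : A)) with hJ
  have hJm : J ≤ maximalIdeal A := Ideal.span_le.2 (Set.range_subset_iff.2 fun i => (x i).2)
  have : IsLocalHom (Ideal.Quotient.mk J) := IsLocalHom.of_surjective _ Ideal.Quotient.mk_surjective
  have hmap : (maximalIdeal A).map (Ideal.Quotient.mk J) = maximalIdeal (A ⧸ J) :=
    IsLocalRing.map_maximalIdeal_of_surjective _ Ideal.Quotient.mk_surjective
  obtain ⟨t, htc, ht⟩ := Submodule.FG.exists_span_finset_card_eq_spanFinrank (maximalIdeal (A ⧸ J)).fg_of_isNoetherianRing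
  let g : A ⧸ J → A := Function.surjInv Ideal.Quotient.mk_surjective
  have hgen : J ⊔ Ideal.span (g '' (t : Set (A ⧸ J))) = maximalIdeal A := by
    have h2 : (Ideal.span (g '' (t : Set (A ⧸ J)))).map (Ideal.Quotient.mk J) = maximalIdeal (A ⧸ J) := by
      rw [Ideal.map_span, Set.image_image]
      simp only [g, Function.surjInv_eq, Set.image_id']
      exact ht
    have h3 := congrArg (Ideal.comap (Ideal.Quotient.mk J)) (h2.trans hmap.symm)
    rw [Ideal.comap_map_of_surjective _ Ideal.Quotient.mk_surjective,
      Ideal.comap_map_of_surjective _ Ideal.Quotient.mk_surjective, ← RingHom.ker_eq_comap_bot, Ideal.mk_ker,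
      sup_eq_left.2 hJm, sup_comm] at h3
    exact h3
  have hb : ∀ T : Finset (Fin r), Ideal.span (Set.range fun i : T => (x i : A)) ⊔ Ideal.span (g '' (t : Set (A ⧸ J))) = maximalIdeal A →
      (maximalIdeal A).spanFinrank ≤ T.card + (maximalIdeal (A ⧸ J)).spanFinrank := by
    intro T hT
    have hTs : (Set.range fun i : T => (x i : A)) = ((T.image fun i => (x i : A) : Finset A) : Set A) := by
      ext a; simp
    rw [← hT, hTs, ← Finset.coe_image, ← Ideal.span_union, ← Finset.coe_union]
    refine (Submodule.spanFinrank_span_le_ncard_of_finite (Finset.finite_toSet _)).trans ?_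
    rw [Set.ncard_coe_finset, ← htc]
    exact (Finset.card_union_le _ _).trans (add_le_add Finset.card_image_le Finset.card_image_le)
  have hall := hb Finset.univ (by
    rw [show (Set.range fun i : (Finset.univ : Finset (Fin r)) => (x i : A)) = Set.range fun i => (x i : A) by ext a; simp]
    exact hgen)
  have hq := (isRegularLocalRing_iff _).1 hreg
  refine ⟨IsRegularLocalRing.of_spanFinrank_maximalIdeal_le _ ?_, ?_⟩
  · rw [← hdim, ← hq, ← Nat.cast_add, Nat.cast_le]
    rw [Finset.card_univ, Fintype.card_fin] at hall
    omega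
  · by_contra hli
    obtain ⟨i, hi⟩ : ∃ i, (maximalIdeal A).toCotangent (x i) ∈
        Submodule.span (ResidueField A) ((fun j => (maximalIdeal A).toCotangent (x j)) '' (Set.univ \ {i})) := by
      by_contra! h
      exact hli (linearIndependent_iff_notMem_span.2 h)
    let T := Finset.univ.erase i
    let N : Ideal A := Ideal.span (Set.range fun j : T => (x j : A)) ⊔ Ideal.span (g '' (t : Set (A ⧸ J)))
    have hN : N ≤ maximalIdeal A := hgen ▸ sup_le_sup_right (Ideal.span_mono
      (Set.range_subset_iff.2 fun (j : T) => (Set.mem_range_self (j : Fin r) : (x j : A) ∈ Set.range fun i => (x i : A)))) _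
    have hxi : (x i : A) ∈ N ⊔ maximalIdeal A ^ 2 := by
      obtain ⟨c, hc, hcx⟩ : ∃ c : maximalIdeal A, (c : A) ∈ N ∧ (maximalIdeal A).toCotangent c = (maximalIdeal A).toCotangent (x i) := by
        have hmem : ∀ y ∈ Submodule.span (ResidueField A) ((fun j => (maximalIdeal A).toCotangent (x j)) '' (Set.univ \ {i})),
            ∃ c : maximalIdeal A, (c : A) ∈ N ∧ (maximalIdeal A).toCotangent c = y := by
          intro y hy
          induction hy using Submodule.span_induction with
          | mem y hy =>
            obtain ⟨j, hj, rfl⟩ := hy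
            exact ⟨x j, Ideal.mem_sup_left (Ideal.subset_span ⟨⟨j, Finset.mem_erase.2 ⟨by simpa using hj.2, Finset.mem_univ _⟩⟩, rfl⟩), rfl⟩
          | zero => exact ⟨0, zero_mem _, map_zero _⟩
          | add y z _ _ hy hz =>
            obtain ⟨a, ha, rfl⟩ := hy
            obtain ⟨b, hb, rfl⟩ := hz
            exact ⟨a + b, add_mem ha hb, map_add _ _ _⟩
          | smul k y _ hy =>
            obtain ⟨a, ha, rfl⟩ := hy
            obtain ⟨k, rfl⟩ := IsLocalRing.residue_surjective k
            exact ⟨k • a, N.smul_mem k ha, by rw [map_smul]; exact (IsScalarTower.algebraMap_smul _ _ _).symm⟩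
        exact hmem _ hi
      have := (maximalIdeal A).toCotangent_eq.1 hcx
      have h2 : (x i : A) = c + -((c : A) - x i) := by ring
      rw [h2]
      exact Submodule.add_mem_sup hc (neg_mem this)
    have hle : maximalIdeal A ≤ N ⊔ maximalIdeal A ^ 2 := by
      conv_lhs => rw [← hgen]
      refine sup_le (Ideal.span_le.2 (Set.range_subset_iff.2 fun j => ?_)) (le_sup_right.trans le_sup_left)
      by_cases hj : j = i
      · subst hj; exact hxi
      · exact Ideal.mem_sup_left (Ideal.mem_sup_left (Ideal.subset_span ⟨⟨j, Finset.mem_erase.2 ⟨hj, Finset.mem_univ _⟩⟩, rfl⟩))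
    have hNeq : N = maximalIdeal A := le_antisymm hN
      (Submodule.le_of_le_smul_of_le_jacobson_bot (IsNoetherian.noetherian _) (IsLocalRing.maximalIdeal_le_jacobson _)
        (by rwa [pow_two, ← smul_eq_mul] at hle))
    have h1 := hb T hNeq
    have h2 := ringKrullDim_le_spanFinrank_maximalIdeal A
    rw [← hdim, ← hq, ← Nat.cast_add, Nat.cast_le] at h2
    rw [Finset.card_erase_of_mem (Finset.mem_univ _), Finset.card_univ, Fintype.card_fin] at h1
    have := i.isLt
    omega

end Groth.Agent.CMAux
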