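import Groth.Agent.FlatLocalDepth.Miracle
import Groth.Agent.FlatLocalDepth.Basic
import Groth.Agent.RegLocus.Basic
import Groth.Agent.CMAux.DimIneq
import Groth.Agent.CAlgReg.AusBuch

/-! Regularity of base, fibre and total space of a local homomorphism. -/

set_option autoImplicit false

universe u

open IsLocalRing

namespace Groth.Agent.CMAux

variable {A B : Type u} [CommRing A] [IsLocalRing A] [IsNoetherianRing A] [CommRing B] [IsLocalRing B]
  [IsNoetherianRing B] [Algebra A B] [IsLocalHom (algebraMap A B)]
  [IsLocalRing (B ⧸ (maximalIdeal A).map (algebraMap A B))]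

set_option quotPrecheck false in
local notation "B₀" => B ⧸ (maximalIdeal A).map (algebraMap A B)

theorem spanFinrank_le_add :
    (maximalIdeal B).spanFinrank ≤ (maximalIdeal A).spanFinrank + (maximalIdeal B₀).spanFinrank := by
  classical
  let I := (maximalIdeal A).map (algebraMap A B)
  have hI : I ≤ maximalIdeal B := ((local_hom_TFAE (algebraMap A B)).out 0 2 rfl rfl).1 inferInstance
  have : IsLocalHom (Ideal.Quotient.mk I) := IsLocalHom.of_surjective _ Ideal.Quotient.mk_surjective
  have hmap : (maximalIdeal B).map (Ideal.Quotient.mk I) = maximalIdeal B₀ :=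
    IsLocalRing.map_maximalIdeal_of_surjective _ Ideal.Quotient.mk_surjective
  obtain ⟨s, hsc, hs⟩ := Submodule.FG.exists_span_finset_card_eq_spanFinrank (maximalIdeal A).fg_of_isNoetherianRing
  obtain ⟨t, htc, ht⟩ := Submodule.FG.exists_span_finset_card_eq_spanFinrank (maximalIdeal B₀).fg_of_isNoetherianRing
  let g : B₀ → B := Function.surjInv Ideal.Quotient.mk_surjective
  have hspan : Ideal.span ((s.image (algebraMap A B) ∪ t.image g : Finset B) : Set B) = maximalIdeal B := by
    rw [Finset.coe_union, Finset.coe_image, Finset.coe_image, Ideal.span_union, ← Ideal.map_span,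
      show Ideal.span (s : Set A) = maximalIdeal A from hs]
    have h2 : (Ideal.span (g '' (t : Set B₀))).map (Ideal.Quotient.mk I) = maximalIdeal B₀ := by
      rw [Ideal.map_span, Set.image_image]
      simp only [g, I, Function.surjInv_eq, Set.image_id']
      exact ht
    have h3 := congrArg (Ideal.comap (Ideal.Quotient.mk I)) (h2.trans hmap.symm)
    rw [Ideal.comap_map_of_surjective _ Ideal.Quotient.mk_surjective,
      Ideal.comap_map_of_surjective _ Ideal.Quotient.mk_surjective, ← RingHom.ker_eq_comap_bot, Ideal.mk_ker,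
      sup_eq_left.2 hI, sup_comm] at h3
    exact h3
  rw [← hspan]
  refine (Submodule.spanFinrank_span_le_ncard_of_finite (Finset.finite_toSet _)).trans ?_
  rw [Set.ncard_coe_finset, ← hsc, ← htc]
  exact (Finset.card_union_le _ _).trans (add_le_add Finset.card_image_le Finset.card_image_le)

theorem regular_tfae :
    [IsRegularLocalRing B ∧
       Module.finrank (ResidueField B) (CotangentSpace B) =
         Module.finrank (ResidueField A) (CotangentSpace A) +
           Module.finrank (ResidueField B₀) (CotangentSpace B₀),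
     IsRegularLocalRing B ∧ IsRegularLocalRing B₀ ∧ Module.Flat A B,
     IsRegularLocalRing A ∧ IsRegularLocalRing B₀ ∧ Module.Flat A B,
     IsRegularLocalRing A ∧ IsRegularLocalRing B₀ ∧
       ringKrullDim B = ringKrullDim A + ringKrullDim B₀].TFAE := by
  tfae_have 1 → 4 := by
    rintro ⟨hB, he⟩
    rw [← spanFinrank_maximalIdeal_eq_finrank_cotangentSpace, ← spanFinrank_maximalIdeal_eq_finrank_cotangentSpace,
      ← spanFinrank_maximalIdeal_eq_finrank_cotangentSpace] at he
    have hB' := (isRegularLocalRing_iff B).1 hB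
    have hineq := CMAux.ringKrullDim_le_add_fibre A B
    obtain ⟨dA, hdA⟩ := CAlgReg.exists_dim (R := A)
    obtain ⟨d0, hd0⟩ := CAlgReg.exists_dim (R := B₀)
    have hA := ringKrullDim_le_spanFinrank_maximalIdeal A
    have h0 := ringKrullDim_le_spanFinrank_maximalIdeal B₀
    rw [hdA] at hA; rw [hd0] at h0
    rw [← hB', hdA, hd0, he] at hineq
    norm_cast at hA h0 hineq
    refine ⟨(isRegularLocalRing_iff A).2 ?_, (isRegularLocalRing_iff B₀).2 ?_, ?_⟩
    · rw [hdA]; norm_cast; omega
    · rw [hd0]; norm_cast; omega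
    · rw [← hB', hdA, hd0, he]; norm_cast; omega
  tfae_have 4 → 3 := by
    rintro ⟨hA, h0, hd⟩
    refine ⟨hA, h0, ?_⟩
    have hB : IsRegularLocalRing B := by
      apply IsRegularLocalRing.of_spanFinrank_maximalIdeal_le
      rw [hd, CAlgReg.dim_eq_spanFinrank (R := A), CAlgReg.dim_eq_spanFinrank (R := B₀)]
      exact_mod_cast spanFinrank_le_add (A := A) (B := B)
    haveI : LocCoh.IsCohenMacaulayLocalRing B := by
      obtain ⟨d, hd'⟩ := CAlgReg.exists_dim (R := B)
      rw [Depth.isCohenMacaulayLocalRing_iff, hd', CAlgReg.depth_self_eq_dim hd']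
      rfl
    exact FlatLocalDepth.miracle_flatness hd
  tfae_have 3 → 2 := by
    rintro ⟨hA, h0, hf⟩
    exact ⟨RegLocus.regular_of_flat_fibre A B, h0, hf⟩
  tfae_have 2 → 1 := by
    rintro ⟨hB, h0, hf⟩
    have hA : IsRegularLocalRing A := S0565.result A B
    refine ⟨hB, ?_⟩
    rw [← spanFinrank_maximalIdeal_eq_finrank_cotangentSpace, ← spanFinrank_maximalIdeal_eq_finrank_cotangentSpace,
      ← spanFinrank_maximalIdeal_eq_finrank_cotangentSpace]
    have h := FlatLocalDepth.ringKrullDim_eq_add A B
    rw [CAlgReg.dim_eq_spanFinrank (R := A), CAlgReg.dim_eq_spanFinrank (R := B₀), CAlgReg.dim_eq_spanFinrank (R := B)] at h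
    exact_mod_cast h
  tfae_finish

end Groth.Agent.CMAux
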