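import Groth.Agent.HilbSam.Degree
import Mathlib

/-! Dimension of quotients of finite modules over semi-local noetherian rings by elements of the radical. -/

set_option autoImplicit false

namespace Groth.Agent.CMAux.SemiLocalDim

universe u

open Groth.Agent.HilbSam

variable {A : Type u} [CommRing A] [IsNoetherianRing A] [Finite (MaximalSpectrum A)]
variable {M : Type u} [AddCommGroup M] [Module A M] [Module.Finite A M]

theorem exists_nat_supportDim [Nontrivial M] : ∃ d : ℕ, Module.supportDim A M = d := by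
  haveI := isArtinianRing_quotient_jacobson (A := A)
  obtain ⟨P, -, hP⟩ := exists_polynomial_natDegree_eq (M := M) (Ring.jacobson A) (Ideal.jacobson_bot (R := A)).ge
  exact ⟨P.natDegree, hP.symm⟩

theorem exists_parameters' (d : ℕ) (h : Module.supportDim A M ≤ d) :
    ∃ ys : List A, ys.length = d ∧ (∀ y ∈ ys, y ∈ Ring.jacobson A) ∧
      IsFiniteLength A (M ⧸ (Ideal.ofList ys • (⊤ : Submodule A M))) := by
  haveI := isArtinianRing_quotient_jacobson (A := A)
  obtain ⟨x, hx, hfin⟩ := exists_parameters (Ring.jacobson A) (Ideal.jacobson_bot (R := A)).ge d M h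
  refine ⟨List.ofFn x, List.length_ofFn, fun y hy => ?_, ?_⟩
  · obtain ⟨i, rfl⟩ := List.mem_ofFn.mp hy; exact hx i
  · have : Ideal.ofList (List.ofFn x) = Ideal.span (Set.range x) := by
      unfold Ideal.ofList; congr 1; ext; simp [List.mem_ofFn]
    rwa [this]

theorem supportDim_le_length (ys : List A) (hys : ∀ y ∈ ys, y ∈ Ring.jacobson A)
    (hfin : IsFiniteLength A (M ⧸ (Ideal.ofList ys • (⊤ : Submodule A M)))) :
    Module.supportDim A M ≤ ys.length := by
  haveI := isArtinianRing_quotient_jacobson (A := A)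
  have hI : Ring.jacobson A ≤ Ideal.jacobson ⊥ := (Ideal.jacobson_bot (R := A)).ge
  have he : Ideal.ofList ys = Ideal.span (Set.range ys.get) := by
    unfold Ideal.ofList; congr 1; ext; simp [List.mem_iff_get]
  rw [he] at hfin
  exact supportDim_le_of_grow (Ring.jacobson A) hI ys.length M
    (grow_of_isFiniteLength (Ring.jacobson A) ys.length M ys.get (fun i => hys _ (List.get_mem _ _)) hfin)

/-- `(M/xs)/ys = M/(xs ++ ys)`. -/
noncomputable def quotAppend (xs ys : List A) :
    ((M ⧸ (Ideal.ofList xs • (⊤ : Submodule A M))) ⧸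
      (Ideal.ofList ys • (⊤ : Submodule A (M ⧸ (Ideal.ofList xs • (⊤ : Submodule A M)))))) ≃ₗ[A]
      M ⧸ (Ideal.ofList (xs ++ ys) • (⊤ : Submodule A M)) :=
  (Submodule.quotEquivOfEq _ _ (by
    rw [Submodule.map_smul'', Submodule.map_top, Submodule.range_mkQ]) ≪≫ₗ
    Submodule.quotientQuotientEquivQuotientSup _ (Ideal.ofList ys • (⊤ : Submodule A M))) ≪≫ₗ
    Submodule.quotEquivOfEq _ _ (by rw [Ideal.ofList_append, Submodule.sup_smul])

theorem supportDim_le_quot_add (xs : List A) (hxs : ∀ x ∈ xs, x ∈ Ring.jacobson A) :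
    Module.supportDim A M ≤
      Module.supportDim A (M ⧸ (Ideal.ofList xs • (⊤ : Submodule A M))) + xs.length := by
  rcases subsingleton_or_nontrivial M with hM | hM
  · rw [Module.supportDim_eq_bot_of_subsingleton A M]; exact bot_le
  haveI : Nontrivial (M ⧸ (Ideal.ofList xs • (⊤ : Submodule A M))) :=
    Submodule.Quotient.nontrivial_iff.mpr fun h => by
      have hle : Ideal.ofList xs ≤ Ideal.jacobson ⊥ := by
        rw [Ideal.jacobson_bot]; exact Ideal.span_le.mpr hxs
      exact (bot_ne_top (α := Submodule A M))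
        (Submodule.eq_bot_of_le_smul_of_le_jacobson_bot _ _ Module.Finite.fg_top h.ge hle).symm
  obtain ⟨e, he⟩ := exists_nat_supportDim (A := A) (M := M ⧸ (Ideal.ofList xs • (⊤ : Submodule A M)))
  obtain ⟨ys, hl, hys, hfin⟩ := exists_parameters' (M := M ⧸ (Ideal.ofList xs • (⊤ : Submodule A M))) e he.le
  have := supportDim_le_length (M := M) (xs ++ ys)
    (fun z hz => (List.mem_append.mp hz).elim (hxs z) (hys z)) ((quotAppend xs ys).isFiniteLength hfin)
  rw [he]
  refine this.trans (le_of_eq ?_)
  rw [List.length_append, hl, add_comm]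
  push_cast
  rfl

end Groth.Agent.CMAux.SemiLocalDim
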